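import Mathlib
import Cfsg.Agent.Lib.Helper45.S3Amal.NDefs

/-!
# S2858, claim (N), package NP: glue of NT, ZL, NS, NC, NEA, NI to `PairAll`  (helper23)

For `a, b ∈ P₂` in different cosets of `T`, the pair `(cj a L, cj b L)` with common Sylow subgroup
`Q₂` satisfies (I1)-(I3).
-/

set_option autoImplicit false

namespace Cfsg.Agent.Lib.Helper23.S3Amal

open Cfsg.Agent.Lib.Helper71.Sym Cfsg.Agent.Lib.Helper45.S3Amal

universe u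

variable {G : Type u} [Group G]

theorem cj_eq_of_nz {H N : Subgroup G} (hN : Nz H N) {h : G} (hh : h ∈ H) : cj h N = N := by
  ext x
  rw [mem_cj]
  constructor
  · intro hx
    have := hN h hh _ hx
    have e : h * (h⁻¹ * x * h) * h⁻¹ = x := by group
    rwa [e] at this
  · intro hx
    have := hN h⁻¹ (H.inv_mem hh) _ hx
    simpa using this

theorem nz_cj {H N : Subgroup G} (c : G) (hN : Nz H N) : Nz (cj c H) (cj c N) := by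
  intro h hh k hk
  rw [mem_cj] at hh hk ⊢
  have := hN _ hh _ hk
  have e : c⁻¹ * (h * k * h⁻¹) * c = c⁻¹ * h * c * (c⁻¹ * k * c) * (c⁻¹ * h * c)⁻¹ := by group
  rw [e]; exact this

theorem cj_inv_cj (a : G) (K : Subgroup G) : cj a⁻¹ (cj a K) = K := by
  rw [← cj_mul]; simp [cj_one]

theorem cj_cj_inv (a : G) (K : Subgroup G) : cj a (cj a⁻¹ K) = K := by
  rw [← cj_mul]; simp [cj_one]

theorem nz_sSup {H : Subgroup G} {𝒩 : Set (Subgroup G)} (h : ∀ N ∈ 𝒩, Nz H N) :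
    Nz H (sSup 𝒩) := by
  intro l hl k hk
  have hle : sSup 𝒩 ≤ (sSup 𝒩).comap (MulAut.conj l).toMonoidHom := by
    apply sSup_le
    intro N hN n hn
    rw [Subgroup.mem_comap]
    show (MulAut.conj l) n ∈ sSup 𝒩
    rw [MulAut.conj_apply]
    exact (le_sSup hN) (h N hN l hl n hn)
  have := hle hk
  rw [Subgroup.mem_comap] at this
  simpa [MulAut.conj_apply] using this

theorem nz_of_le_normalizer {H N : Subgroup G} (h : H ≤ Subgroup.normalizer (N : Set G)) :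
    Nz H N := by
  intro l hl k hk
  exact (Subgroup.mem_normalizer_iff.mp (h hl) k).mp hk

/-- `hC` for the first member of the pair `(cj a L, cj b L)`. -/
theorem hC_pair (hNC : PkgNC.{u}) {P₁ P₂ T Q₁ Q₂ L : Subgroup G} (ctx : NCtx P₁ P₂ T Q₁ Q₂ L)
    {a b : G} (ha : a ∈ P₂) (hab : a⁻¹ * b ∈ P₂) (habT : a⁻¹ * b ∉ T) {K : Subgroup G}
    (hKS : K ≤ Q₂) (hK₁ : Nz (cj a L) K) (hK₂ : Nz (cj b L) K) :
    ∀ g ∈ cj a L, (∀ d ∈ cj a (Q₁ ⊓ Q₂), g * d * g⁻¹ * d⁻¹ ∈ K) → g ∈ cj a (Q₁ ⊓ Q₂) := by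
  have hNz₂ : Nz P₂ Q₂ := ctx.a₂.hQn
  have hS : cj a⁻¹ Q₂ = Q₂ := cj_eq_of_nz hNz₂ (P₂.inv_mem ha)
  have hK' : cj a⁻¹ K ≤ Q₂ := by
    rw [← hS]; exact cj_mono hKS _
  have h1 : Nz L (cj a⁻¹ K) := by
    have := nz_cj a⁻¹ hK₁
    rwa [cj_inv_cj] at this
  have h2 : Nz (cj (a⁻¹ * b) L) (cj a⁻¹ K) := by
    have := nz_cj a⁻¹ hK₂
    rwa [← cj_mul] at this
  intro g hg hgd
  rw [mem_cj] at hg ⊢
  apply hNC P₁ P₂ T Q₁ Q₂ L ctx (a⁻¹ * b) hab habT (cj a⁻¹ K) hK' h1 h2 _ hg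
  intro d hd
  rw [mem_cj]
  have := hgd (a * d * a⁻¹) (conj_mem_cj hd)
  have e : a⁻¹⁻¹ * (a⁻¹ * g * a * d * (a⁻¹ * g * a)⁻¹ * d⁻¹) * a⁻¹ =
      g * (a * d * a⁻¹) * g⁻¹ * (a * d * a⁻¹)⁻¹ := by group
  rw [e]; exact this

/-- **Package NP.** -/
theorem pkgNP : PkgNP.{u} := by
  intro hNT hZL hNS hNC hNEA hNI n IH G _ P₁ P₂ T Q₁ Q₂ L ctx hn a ha b hb habT
  have hNz₂ : Nz P₂ Q₂ := ctx.a₂.hQn
  have hab : a⁻¹ * b ∈ P₂ := P₂.mul_mem (P₂.inv_mem ha) hb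
  have hba : b⁻¹ * a ∈ P₂ := P₂.mul_mem (P₂.inv_mem hb) ha
  have hbaT : b⁻¹ * a ∉ T := by
    intro hc
    apply habT
    have := T.inv_mem hc
    simpa using this
  -- the two conjugates of `L`
  have hSa : cj a Q₂ = Q₂ := cj_eq_of_nz hNz₂ ha
  have hSb : cj b Q₂ = Q₂ := cj_eq_of_nz hNz₂ hb
  have hA₁ : LAmal (cj a L) Q₂ (cj a (Q₁ ⊓ Q₂)) := by
    have := hNT L Q₂ (Q₁ ⊓ Q₂) a ctx.aL
    rwa [hSa] at this
  have hA₂ : LAmal (cj b L) Q₂ (cj b (Q₁ ⊓ Q₂)) := by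
    have := hNT L Q₂ (Q₁ ⊓ Q₂) b ctx.aL
    rwa [hSb] at this
  have hZ₁ := hZL _ _ _ hA₁
  have hZ₂ := hZL _ _ _ hA₂
  -- `T` normalizes `L` and `D`
  have hTL : ∀ τ ∈ T, cj τ L = L := fun τ hτ => cj_eq_of_nz ctx.nL (ctx.a₁.hTH hτ)
  have hTD : ∀ τ ∈ T, cj τ (Q₁ ⊓ Q₂) = Q₁ ⊓ Q₂ := fun τ hτ => cj_eq_of_nz ctx.nD (ctx.a₁.hTH hτ)
  -- `D₁ ≠ D₂`
  have hne : cj a (Q₁ ⊓ Q₂) ≠ cj b (Q₁ ⊓ Q₂) := by
    intro heq
    have hp : cj (a⁻¹ * b) (Q₁ ⊓ Q₂) = Q₁ ⊓ Q₂ := by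
      rw [cj_mul, ← heq, cj_inv_cj]
    -- the normalizer of `D` in `P₂` contains `T` and `a⁻¹ b`
    have hmem : ∀ h : G, cj h (Q₁ ⊓ Q₂) = Q₁ ⊓ Q₂ →
        h ∈ Subgroup.normalizer ((Q₁ ⊓ Q₂ : Subgroup G) : Set G) := by
      intro h hh
      rw [Subgroup.mem_normalizer_iff]
      intro x
      constructor
      · intro hx
        have := conj_mem_cj (g := h) hx
        rwa [hh] at this
      · intro hx
        rw [← hh, mem_cj] at hx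
        have e : h⁻¹ * (h * x * h⁻¹) * h = x := by group
        rwa [e] at hx
    have hTle : T ≤ P₂ ⊓ Subgroup.normalizer ((Q₁ ⊓ Q₂ : Subgroup G) : Set G) :=
      fun τ hτ => ⟨ctx.a₂.hTH hτ, hmem τ (hTD τ hτ)⟩
    have hP₂ : P₂ ⊓ Subgroup.normalizer ((Q₁ ⊓ Q₂ : Subgroup G) : Set G) = P₂ := by
      rcases ctx.z₂.maxT _ hTle inf_le_left with h | h
      · exfalso
        apply habT
        rw [← h]
        exact ⟨hab, hmem _ hp⟩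
      · exact h
    have hnz₂ : Nz P₂ (Q₁ ⊓ Q₂) := by
      apply nz_of_le_normalizer
      intro x hx
      have : x ∈ P₂ ⊓ Subgroup.normalizer ((Q₁ ⊓ Q₂ : Subgroup G) : Set G) := by rw [hP₂]; exact hx
      exact this.2
    have hbot : Q₁ ⊓ Q₂ = ⊥ :=
      ctx.core _ (inf_le_left.trans ctx.a₁.hQT) ctx.nD hnz₂
    -- then `L ≤ D = ⊥`, against `|L| = 3 |Q₂|`
    have hLbot : L = ⊥ := by
      rw [eq_bot_iff]
      intro g hg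
      have := ctx.aL.hCQ g hg (by
        intro q hq
        rw [hbot, Subgroup.mem_bot] at hq
        rw [hq]; simp)
      rwa [hbot] at this
    have hcard := ctx.aL.hHT
    rw [hLbot, Subgroup.card_bot] at hcard
    omega
  -- the swap
  obtain ⟨t₀, ht₀, ht₀1, ht₀2⟩ := hNS P₂ T Q₂ ctx.a₂ ctx.z₂ (a⁻¹ * b) hab habT
  have hswap : ∃ t : G, cj t Q₂ = Q₂ ∧ cj t (cj a L) = cj b L ∧ cj t (cj b L) = cj a L := by
    refine ⟨a * t₀ * a⁻¹, ?_, ?_, ?_⟩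
    · exact cj_eq_of_nz hNz₂ (P₂.mul_mem (P₂.mul_mem ha ht₀) (P₂.inv_mem ha))
    · -- `a t₀ a⁻¹ a = a t₀ = b (b⁻¹ a t₀)` with `b⁻¹ a t₀ = (t₀⁻¹ a⁻¹ b)⁻¹ ∈ T`
      have hτ : b⁻¹ * a * t₀ ∈ T := by
        have := T.inv_mem ht₀1
        have e : (t₀⁻¹ * (a⁻¹ * b))⁻¹ = b⁻¹ * a * t₀ := by group
        rwa [e] at this
      rw [← cj_mul]
      have e : a * t₀ * a⁻¹ * a = b * (b⁻¹ * a * t₀) := by group
      rw [e, cj_mul, hTL _ hτ]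
    · rw [← cj_mul]
      have e : a * t₀ * a⁻¹ * b = a * (t₀ * (a⁻¹ * b)) := by group
      rw [e, cj_mul, hTL _ ht₀2]
  -- the common core `K`
  set 𝒩 : Set (Subgroup G) := {N | N ≤ Q₂ ∧ Nz (cj a L) N ∧ Nz (cj b L) N} with h𝒩
  set K : Subgroup G := sSup 𝒩 with hK
  have hKS : K ≤ Q₂ := sSup_le (fun N hN => hN.1)
  have hK₁ : Nz (cj a L) K := nz_sSup (fun N hN => hN.2.1)
  have hK₂ : Nz (cj b L) K := nz_sSup (fun N hN => hN.2.2)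
  have hKmax : ∀ N : Subgroup G, N ≤ Q₂ → Nz (cj a L) N → Nz (cj b L) N → N ≤ K :=
    fun N h1 h2 h3 => le_sSup ⟨h1, h2, h3⟩
  have hC₁ := hC_pair hNC ctx ha hab habT hKS hK₁ hK₂
  have hC₂ := hC_pair hNC ctx hb hba hbaT hKS hK₂ hK₁
  obtain ⟨hE₁, hE₂⟩ := hNEA n IH (cj a L) (cj b L) Q₂ (cj a (Q₁ ⊓ Q₂)) (cj b (Q₁ ⊓ Q₂)) K
    hA₁ hA₂ hZ₁ hZ₂ hne hn hswap hKS hK₁ hK₂ hKmax hC₁ hC₂
  obtain ⟨hI1, hI2, hI3⟩ := hNI (cj a L) (cj b L) Q₂ (cj a (Q₁ ⊓ Q₂)) (cj b (Q₁ ⊓ Q₂)) K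
    hA₁ hA₂ hZ₁ hZ₂ hne hswap hKS hK₁ hK₂ hKmax hC₁ hE₁ hE₂
  exact
    { i1 := fun g hg hg2 => hI1 g hg (by rw [hg2]; exact K.one_mem)
      i2 := hI2
      i3 := hI3 }

end Cfsg.Agent.Lib.Helper23.S3Amal
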