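import Mathlib
import Cfsg.Agent.Lib.Helper45.S3Amal.NDefs
import Cfsg.Agent.Lib.Helper47.Subn
import Cfsg.Agent.Lib.Helper47.Large
import Cfsg.Agent.Lib.Helper84.PCoreBasic
import Cfsg.Agent.Lib.Helper83.KS12.S3Quot
import Cfsg.Agent.Lib.Helper23.S3Amal.NP

/-!
# S2858, claim (N), package NEA: the induction step  (helper23)

`subQuot` (helper59) in `LAmal` form: for two `S3`-type subgroups `L₁, L₂` with common Sylow
subgroup `S`, swapped by some `t`, and `K` the largest subgroup of `S` normalized by both,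
`D_i / K` is elementary abelian.

Side facts for `LAmal L S D`: `lamal_sylow`, `lamal_pCoreOf` (`O₂(L) = D`), `lamal_quot`
(`L / O₂(L) ≃* S₃`), `le_D_of_nz`; `exists_central_mod` (a central involution of `S / K`).
-/

set_option autoImplicit false
set_option linter.style.haveILetI false

namespace Cfsg.Agent.Lib.Helper23.S3Amal

open Cfsg.Agent.Lib.Helper71.Sym Cfsg.Agent.Lib.Helper45.S3Amal Cfsg.Agent.Lib.Helper59.Amal

universe u

variable {G : Type u} [Group G]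

theorem le_normalizer_of_nz' {H N : Subgroup G} (h : Nz H N) :
    H ≤ Subgroup.normalizer (N : Set G) := by
  intro x hx
  rw [Subgroup.mem_normalizer_iff]
  intro n
  constructor
  · exact h x hx n
  · intro hn
    have := h x⁻¹ (H.inv_mem hx) _ hn
    have e : x⁻¹ * (x * n * x⁻¹) * x⁻¹⁻¹ = n := by group
    rwa [e] at this

theorem nz_sup {H N₁ N₂ : Subgroup G} (h1 : Nz H N₁) (h2 : Nz H N₂) : Nz H (N₁ ⊔ N₂) := by
  have : N₁ ⊔ N₂ = sSup {N₁, N₂} := by rw [sSup_pair]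
  rw [this]
  apply nz_sSup
  intro N hN
  rcases hN with h | h
  · rw [h]; exact h1
  · rw [Set.mem_singleton_iff.mp h]; exact h2

theorem lamal_finS {L S D : Subgroup G} (hA : LAmal L S D) : Finite ↥S :=
  haveI := hA.fin
  Finite.of_injective _ (Subgroup.inclusion_injective hA.hTH)

/-- A subgroup of `S` normalized by `L` lies in `D`. -/
theorem le_D_of_nz {L S D N : Subgroup G} (hA : LAmal L S D) (hNS : N ≤ S) (hN : Nz L N) :
    N ≤ D := by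
  haveI := hA.fin
  haveI hfS : Finite ↥S := lamal_finS hA
  by_contra hND
  have hle : N ⊔ D ≤ S := sup_le hNS hA.hQT
  haveI hfND : Finite ↥(N ⊔ D : Subgroup G) :=
    Finite.of_injective _ (Subgroup.inclusion_injective hle)
  have hcard : Nat.card ↥S ≤ Nat.card ↥(N ⊔ D : Subgroup G) := by
    have h1 : Nat.card ↥D ∣ Nat.card ↥(N ⊔ D : Subgroup G) :=
      Subgroup.card_dvd_of_le le_sup_right
    have h2 : Nat.card ↥D ≠ Nat.card ↥(N ⊔ D : Subgroup G) := by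
      intro heq
      have := Subgroup.eq_of_le_of_card_ge (le_sup_right : D ≤ N ⊔ D) (le_of_eq heq.symm)
      exact hND (this ▸ le_sup_left)
    obtain ⟨c, hc⟩ := h1
    have hpos : 0 < Nat.card ↥(N ⊔ D : Subgroup G) := Nat.card_pos
    have hc2 : 2 ≤ c := by
      rcases c with _ | _ | c
      · simp at hc; omega
      · simp at hc; exact absurd hc.symm h2
      · omega
    rw [hA.hTQ, hc]
    nlinarith
  have hS : N ⊔ D = S := Subgroup.eq_of_le_of_card_ge hle hcard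
  have hnS : Nz L S := hS ▸ nz_sup hN hA.hQn
  obtain ⟨h, hh, t, ht, hht⟩ := hA.hTn
  exact hht (hnS h hh t ht)

theorem lamal_sylow {L S D : Subgroup G} (hA : LAmal L S D) :
    ∃ Syl : Sylow 2 ↥L, (Syl : Subgroup ↥L) = S.subgroupOf L := by
  haveI := hA.fin
  haveI : Fact (Nat.Prime 2) := ⟨Nat.prime_two⟩
  haveI hfS : Finite ↥S := lamal_finS hA
  have hp : IsPGroup 2 ↥(S.subgroupOf L) :=
    hA.hT2.comap_of_injective L.subtype L.subtype_injective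
  obtain ⟨Q, hQ⟩ := hp.exists_le_sylow
  refine ⟨Q, ?_⟩
  symm
  apply Subgroup.eq_of_le_of_card_ge hQ
  have hcS : Nat.card ↥(S.subgroupOf L) = Nat.card ↥S :=
    Nat.card_congr (Subgroup.subgroupOfEquivOfLe hA.hTH).toEquiv
  rw [hcS]
  obtain ⟨k, hk⟩ := IsPGroup.iff_card.mp Q.isPGroup'
  obtain ⟨m, hm⟩ := IsPGroup.iff_card.mp hA.hT2
  have hdvd : Nat.card ↥(Q : Subgroup ↥L) ∣ Nat.card ↥L := Subgroup.card_subgroup_dvd_card _
  rw [hk, hA.hHT, hm] at hdvd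
  have h2 : 2 ^ k ∣ 2 ^ m :=
    (Nat.Coprime.dvd_mul_left (Nat.Coprime.pow_left k (by norm_num))).mp hdvd
  rw [hk, hm]
  exact Nat.le_of_dvd (by positivity) h2

/-- `O₂(L) = D`. -/
theorem lamal_pCoreOf {L S D : Subgroup G} (hA : LAmal L S D) : Cfsg.pCoreOf 2 L = D := by
  haveI : Fact (Nat.Prime 2) := ⟨Nat.prime_two⟩
  apply le_antisymm
  · obtain ⟨Syl, hSyl⟩ := lamal_sylow hA
    have h1 : Cfsg.pCoreOf 2 L ≤ S := by
      rintro _ ⟨x, hx, rfl⟩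
      have := Cfsg.Agent.Lib.Helper84.pCore_le_sylow 2 Syl hx
      rw [hSyl] at this
      exact Subgroup.mem_subgroupOf.mp this
    exact le_D_of_nz hA h1
      (nz_of_le_normalizer (Cfsg.Agent.Lib.Helper47.le_normalizer_pCoreOf 2 L))
  · exact Cfsg.Agent.Lib.Helper47.le_pCoreOf_of_le_normalizer (hA.hT2.to_le hA.hQT)
      (hA.hQT.trans hA.hTH) (le_normalizer_of_nz' hA.hQn)

theorem index_pCore_eq_relIndex' (P : Subgroup G) :
    (Cfsg.pCore 2 ↥P).index = (Cfsg.pCoreOf 2 P).relIndex P := by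
  unfold Subgroup.relIndex Cfsg.pCoreOf
  congr 1
  exact (Subgroup.comap_map_eq_self_of_injective P.subtype_injective _).symm

/-- `L / O₂(L) ≃* S₃`. -/
theorem lamal_quot {L S D : Subgroup G} (hA : LAmal L S D) :
    Nonempty (↥L ⧸ Cfsg.pCore 2 ↥L ≃* Equiv.Perm (Fin 3)) := by
  haveI := hA.fin
  haveI hfS : Finite ↥S := lamal_finS hA
  haveI hfD : Finite ↥D := Finite.of_injective _ (Subgroup.inclusion_injective hA.hQT)
  haveI hn : (Cfsg.pCore 2 ↥L).Normal := Subgroup.sSup_normal _ (fun _ h => h.1)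
  have hD := lamal_pCoreOf hA
  apply Cfsg.Agent.Lib.Helper83.KS12.nonempty_mulEquiv_perm_three
  · rw [index_pCore_eq_relIndex', hD]
    have h1 := Subgroup.card_mul_index (D.subgroupOf L)
    have h2 : Nat.card ↥(D.subgroupOf L) = Nat.card ↥D :=
      Nat.card_congr (Subgroup.subgroupOfEquivOfLe (hA.hQT.trans hA.hTH)).toEquiv
    rw [h2, hA.hHT, hA.hTQ] at h1
    have hpos : 0 < Nat.card ↥D := Nat.card_pos
    show (D.subgroupOf L).index = 6
    nlinarith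
  · intro hc
    obtain ⟨h, hh, t, ht, hht⟩ := hA.hTn
    have hmem := hc (Subgroup.commutator_mem_commutator
      (Subgroup.mem_top (⟨h, hh⟩ : ↥L)) (Subgroup.mem_top (⟨t, hA.hTH ht⟩ : ↥L)))
    have hmem' : h * t * h⁻¹ * t⁻¹ ∈ Cfsg.pCoreOf 2 L :=
      ⟨_, hmem, by simp [commutatorElement_def]⟩
    rw [hD] at hmem'
    apply hht
    have := S.mul_mem (hA.hQT hmem') ht
    simpa [mul_assoc] using this

/-- A central involution of `S / K`, lifted to `S`. -/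
theorem exists_central_mod {S K : Subgroup G} [Finite ↥S] (hS2 : IsPGroup 2 ↥S) (hKS : K ≤ S)
    (hK : Nz S K) (hne : K ≠ S) :
    ∃ z ∈ S, z ∉ K ∧ z * z ∈ K ∧ ∀ s ∈ S, z * s * z⁻¹ * s⁻¹ ∈ K := by
  haveI : Fact (Nat.Prime 2) := ⟨Nat.prime_two⟩
  haveI hn : (K.subgroupOf S).Normal :=
    (Subgroup.normal_subgroupOf_iff_le_normalizer hKS).mpr (le_normalizer_of_nz' hK)
  have hQ2 : IsPGroup 2 (↥S ⧸ K.subgroupOf S) := hS2.to_quotient (K.subgroupOf S)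
  have hidx : (K.subgroupOf S).index ≠ 1 := by
    intro h
    rw [Subgroup.index_eq_one, Subgroup.subgroupOf_eq_top] at h
    exact hne (le_antisymm hKS h)
  haveI : Nontrivial (↥S ⧸ K.subgroupOf S) := by
    rw [← Finite.one_lt_card_iff_nontrivial]
    have h1 : Nat.card (↥S ⧸ K.subgroupOf S) = (K.subgroupOf S).index := rfl
    have hpos : 0 < Nat.card (↥S ⧸ K.subgroupOf S) := Nat.card_pos
    omega
  haveI : Nontrivial (Subgroup.center (↥S ⧸ K.subgroupOf S)) := hQ2.center_nontrivial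
  have hc2 : IsPGroup 2 (Subgroup.center (↥S ⧸ K.subgroupOf S)) := hQ2.to_subgroup _
  obtain ⟨k, hk⟩ := IsPGroup.iff_card.mp hc2
  have hdvd : 2 ∣ Nat.card (Subgroup.center (↥S ⧸ K.subgroupOf S)) := by
    rw [hk]
    have hk0 : k ≠ 0 := by
      rintro rfl
      have h1 : Nat.card (Subgroup.center (↥S ⧸ K.subgroupOf S)) = 1 := by simpa using hk
      have := Finite.one_lt_card_iff_nontrivial.mpr
        (inferInstance : Nontrivial (Subgroup.center (↥S ⧸ K.subgroupOf S)))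
      omega
    exact dvd_pow_self 2 hk0
  obtain ⟨zc, hzc⟩ := exists_prime_orderOf_dvd_card' 2 hdvd
  obtain ⟨z', hz'⟩ := QuotientGroup.mk_surjective (zc : ↥S ⧸ K.subgroupOf S)
  refine ⟨z'.1, z'.2, ?_, ?_, ?_⟩
  · intro hzK
    have h1 : (zc : ↥S ⧸ K.subgroupOf S) = 1 := by
      rw [← hz', QuotientGroup.eq_one_iff]
      exact Subgroup.mem_subgroupOf.mpr hzK
    have h2 : zc = 1 := Subtype.ext h1
    rw [h2, orderOf_one] at hzc
    omega
  · have h2 : (zc : ↥S ⧸ K.subgroupOf S) * (zc : ↥S ⧸ K.subgroupOf S) = 1 := by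
      have := pow_orderOf_eq_one zc
      rw [hzc, pow_two] at this
      exact congrArg Subtype.val this
    rw [← hz', ← QuotientGroup.mk_mul, QuotientGroup.eq_one_iff] at h2
    exact Subgroup.mem_subgroupOf.mp h2
  · intro s hs
    have hcomm : (zc : ↥S ⧸ K.subgroupOf S) * (QuotientGroup.mk (⟨s, hs⟩ : ↥S)) =
        (QuotientGroup.mk (⟨s, hs⟩ : ↥S)) * (zc : ↥S ⧸ K.subgroupOf S) :=
      (Subgroup.mem_center_iff.mp zc.2 _).symm
    have h3 : (QuotientGroup.mk (z' * ⟨s, hs⟩ * z'⁻¹ * (⟨s, hs⟩ : ↥S)⁻¹) : ↥S ⧸ K.subgroupOf S)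
        = 1 := by
      rw [QuotientGroup.mk_mul, QuotientGroup.mk_mul, QuotientGroup.mk_mul, QuotientGroup.mk_inv,
        QuotientGroup.mk_inv, hz', hcomm]
      group
    rw [QuotientGroup.eq_one_iff] at h3
    exact Subgroup.mem_subgroupOf.mp h3

/-- The preimage in `S` of `Ω₁Z(S/K)`. -/
def zHat (S K : Subgroup G) (hK : Nz S K) : Subgroup G where
  carrier := {z | z ∈ S ∧ z * z ∈ K ∧ ∀ s ∈ S, z * s * z⁻¹ * s⁻¹ ∈ K}
  one_mem' := ⟨S.one_mem, by simpa using K.one_mem, fun s _ => by simpa using K.one_mem⟩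
  mul_mem' := by
    rintro z z' ⟨hz, hz2, hzc⟩ ⟨hz', hz'2, hz'c⟩
    refine ⟨S.mul_mem hz hz', ?_, ?_⟩
    · have e : z * z' * (z * z') = z * (z' * z * z'⁻¹ * z⁻¹) * z⁻¹ * (z * z) * (z' * z') := by
        group
      rw [e]
      exact K.mul_mem (K.mul_mem (hK z hz _ (hz'c z hz)) hz2) hz'2
    · intro s hs
      have e : z * z' * s * (z * z')⁻¹ * s⁻¹ =
          z * (z' * s * z'⁻¹ * s⁻¹) * z⁻¹ * (z * s * z⁻¹ * s⁻¹) := by group
      rw [e]
      exact K.mul_mem (hK z hz _ (hz'c s hs)) (hzc s hs)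
  inv_mem' := by
    rintro z ⟨hz, hz2, hzc⟩
    refine ⟨S.inv_mem hz, ?_, ?_⟩
    · have e : z⁻¹ * z⁻¹ = (z * z)⁻¹ := by group
      rw [e]; exact K.inv_mem hz2
    · intro s hs
      have e : z⁻¹ * s * z⁻¹⁻¹ * s⁻¹ = z⁻¹ * (z * s * z⁻¹ * s⁻¹)⁻¹ * z⁻¹⁻¹ := by group
      rw [e]
      exact hK z⁻¹ (S.inv_mem hz) _ (K.inv_mem (hzc s hs))

theorem mem_zHat {S K : Subgroup G} {hK : Nz S K} {z : G} :
    z ∈ zHat S K hK ↔ z ∈ S ∧ z * z ∈ K ∧ ∀ s ∈ S, z * s * z⁻¹ * s⁻¹ ∈ K := Iff.rfl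

/-- `hZ` of `subQuot` for the side `L₁` of a swapped pair. -/
theorem hZ_side {L₁ L₂ S D₁ K : Subgroup G} (hA₁ : LAmal L₁ S D₁) {t : G}
    (htS : cj t S = S) (ht₁ : cj t L₁ = L₂) (ht₂ : cj t L₂ = L₁)
    (hKS : K ≤ S) (hK₁ : Nz L₁ K) (hK₂ : Nz L₂ K)
    (hKmax : ∀ N : Subgroup G, N ≤ S → Nz L₁ N → Nz L₂ N → N ≤ K) :
    ∃ z ∈ S, z * z ∈ K ∧ (∀ s ∈ S, z * s * z⁻¹ * s⁻¹ ∈ K) ∧
      ∃ g ∈ L₁, g * z * g⁻¹ * z⁻¹ ∉ K := by
  haveI := hA₁.fin
  haveI hfS : Finite ↥S := lamal_finS hA₁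
  by_contra hcon
  push_neg at hcon
  have hKnS : Nz S K := fun s hs => hK₁ s (hA₁.hTH hs)
  -- `t` normalizes `K`
  have htS' : cj t⁻¹ S = S := by
    have := cj_inv_cj t S
    rwa [htS] at this
  have hKt : cj t K = K := by
    apply le_antisymm
    · refine hKmax _ (by rw [← htS]; exact cj_mono hKS t) ?_ ?_
      · have := nz_cj t hK₂
        rwa [ht₂] at this
      · have := nz_cj t hK₁
        rwa [ht₁] at this
    · have h1 : cj t⁻¹ K ≤ K := by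
        refine hKmax _ (by rw [← htS']; exact cj_mono hKS t⁻¹) ?_ ?_
        · have := nz_cj t⁻¹ hK₂
          rwa [← ht₁, cj_inv_cj] at this
        · have := nz_cj t⁻¹ hK₁
          rwa [← ht₂, cj_inv_cj] at this
      have := (cj_le_iff t⁻¹).mp h1
      simpa using this
  have hKt_mem : ∀ a : G, t⁻¹ * a * t ∈ K ↔ a ∈ K := by
    intro a
    rw [← mem_cj, hKt]
  have hSt_mem : ∀ a : G, t⁻¹ * a * t ∈ S ↔ a ∈ S := by
    intro a
    rw [← mem_cj, htS]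
  have hL_mem : ∀ a : G, t⁻¹ * a * t ∈ L₁ ↔ a ∈ L₂ := by
    intro a
    rw [← mem_cj, ht₁]
  have hKZ : K ≤ zHat S K hKnS := by
    intro k hk
    refine ⟨hKS hk, K.mul_mem hk hk, fun s hs => ?_⟩
    have e : k * s * k⁻¹ * s⁻¹ = k * (s * k⁻¹ * s⁻¹) := by group
    rw [e]
    exact K.mul_mem hk (hKnS s hs _ (K.inv_mem hk))
  -- `L₁` centralizes `Ẑ` modulo `K`
  have hc₁ : ∀ g ∈ L₁, ∀ z ∈ zHat S K hKnS, g * z * g⁻¹ * z⁻¹ ∈ K :=
    fun g hg z hz => hcon z hz.1 hz.2.1 hz.2.2 g hg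
  -- `Ẑ` is invariant under conjugation by `t⁻¹`
  have hZt : ∀ z ∈ zHat S K hKnS, t⁻¹ * z * t ∈ zHat S K hKnS := by
    intro z hz
    refine ⟨(hSt_mem z).mpr hz.1, ?_, ?_⟩
    · have e : t⁻¹ * z * t * (t⁻¹ * z * t) = t⁻¹ * (z * z) * t := by group
      rw [e]
      exact (hKt_mem _).mpr hz.2.1
    · intro s hs
      have hs' : t * s * t⁻¹ ∈ S := by
        have := conj_mem_cj (g := t) hs
        rwa [htS] at this
      have e : t⁻¹ * z * t * s * (t⁻¹ * z * t)⁻¹ * s⁻¹ =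
          t⁻¹ * (z * (t * s * t⁻¹) * z⁻¹ * (t * s * t⁻¹)⁻¹) * t := by group
      rw [e]
      exact (hKt_mem _).mpr (hz.2.2 _ hs')
  -- `L₂` centralizes `Ẑ` modulo `K`
  have hc₂ : ∀ g ∈ L₂, ∀ z ∈ zHat S K hKnS, g * z * g⁻¹ * z⁻¹ ∈ K := by
    intro g hg z hz
    have h1 := hc₁ (t⁻¹ * g * t) ((hL_mem g).mpr hg) (t⁻¹ * z * t) (hZt z hz)
    have e : t⁻¹ * g * t * (t⁻¹ * z * t) * (t⁻¹ * g * t)⁻¹ * (t⁻¹ * z * t)⁻¹ =
        t⁻¹ * (g * z * g⁻¹ * z⁻¹) * t := by group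
    rw [e] at h1
    exact (hKt_mem _).mp h1
  have hn₁ : Nz L₁ (zHat S K hKnS) := by
    intro g hg z hz
    have e : g * z * g⁻¹ = g * z * g⁻¹ * z⁻¹ * z := by group
    rw [e]
    exact (zHat S K hKnS).mul_mem (hKZ (hc₁ g hg z hz)) hz
  have hn₂ : Nz L₂ (zHat S K hKnS) := by
    intro g hg z hz
    have e : g * z * g⁻¹ = g * z * g⁻¹ * z⁻¹ * z := by group
    rw [e]
    exact (zHat S K hKnS).mul_mem (hKZ (hc₂ g hg z hz)) hz
  have hZK : zHat S K hKnS ≤ K := hKmax _ (fun z hz => hz.1) hn₁ hn₂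
  -- hence `K = S`, and `S` is normal in `L₁`
  have hKeq : K = S := by
    by_contra hne
    obtain ⟨z, hzS, hzK, hz2, hzc⟩ := exists_central_mod hA₁.hT2 hKS hKnS hne
    exact hzK (hZK ⟨hzS, hz2, hzc⟩)
  obtain ⟨h, hh, s, hs, hhs⟩ := hA₁.hTn
  apply hhs
  have := hK₁ h hh s (by rw [hKeq]; exact hs)
  rwa [hKeq] at this

/-- **Package NEA.** -/
theorem pkgNEA : PkgNEA.{u} := by
  intro n IH G _ L₁ L₂ S D₁ D₂ K hA₁ hA₂ hZ₁ hZ₂ hne hn hswap hKS hK₁ hK₂ hKmax hC₁ hC₂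
  haveI := hA₁.fin
  haveI := hA₂.fin
  haveI hfS : Finite ↥S := lamal_finS hA₁
  obtain ⟨t, htS, ht₁, ht₂⟩ := hswap
  have hD₁ := lamal_pCoreOf hA₁
  have hD₂ := lamal_pCoreOf hA₂
  have hS : S = L₁ ⊓ L₂ := by
    rcases hZ₁.maxT (L₁ ⊓ L₂) (le_inf hA₁.hTH hA₂.hTH) inf_le_left with h | h
    · exact h.symm
    · exfalso
      have hle : L₁ ≤ L₂ := by rw [← h]; exact inf_le_right
      have heq : L₁ = L₂ := Subgroup.eq_of_le_of_card_ge hle (by rw [hA₁.hHT, hA₂.hHT])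
      apply hne
      rw [← hD₁, ← hD₂, heq]
  have hsyl : ∀ P ∈ ({L₁, L₂} : Set (Subgroup G)),
      ∃ Syl : Sylow 2 ↥P, (Syl : Subgroup ↥P) = S.subgroupOf P := by
    intro P hP
    rcases hP with h | h
    · rw [h]; exact lamal_sylow hA₁
    · rw [Set.mem_singleton_iff.mp h]; exact lamal_sylow hA₂
  have hquot : ∀ P ∈ ({L₁, L₂} : Set (Subgroup G)),
      Nonempty (↥P ⧸ Cfsg.pCore 2 ↥P ≃* Equiv.Perm (Fin 3)) := by
    intro P hP
    rcases hP with h | h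
    · rw [h]; exact lamal_quot hA₁
    · rw [Set.mem_singleton_iff.mp h]; exact lamal_quot hA₂
  have hKmax' : ∀ N : Subgroup G, N ≤ S → L₁ ≤ Subgroup.normalizer (N : Set G) →
      L₂ ≤ Subgroup.normalizer (N : Set G) → N ≤ K :=
    fun N h1 h2 h3 => hKmax N h1 (nz_of_le_normalizer h2) (nz_of_le_normalizer h3)
  have hC : ∀ P ∈ ({L₁, L₂} : Set (Subgroup G)), ∀ g ∈ P,
      (∀ d ∈ Cfsg.pCoreOf 2 P, g * d * g⁻¹ * d⁻¹ ∈ K) → g ∈ Cfsg.pCoreOf 2 P := by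
    intro P hP
    rcases hP with h | h
    · rw [h, hD₁]; exact hC₁
    · rw [Set.mem_singleton_iff.mp h, hD₂]; exact hC₂
  have hZ : ∀ P ∈ ({L₁, L₂} : Set (Subgroup G)), ∃ z ∈ S, z * z ∈ K ∧
      (∀ s ∈ S, z * s * z⁻¹ * s⁻¹ ∈ K) ∧ ∃ g ∈ P, g * z * g⁻¹ * z⁻¹ ∉ K := by
    intro P hP
    rcases hP with h | h
    · rw [h]; exact hZ_side hA₁ htS ht₁ ht₂ hKS hK₁ hK₂ hKmax
    · rw [Set.mem_singleton_iff.mp h]
      exact hZ_side hA₂ htS ht₂ ht₁ hKS hK₂ hK₁ (fun N h1 h2 h3 => hKmax N h1 h3 h2)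
  have key := subQuot n IH L₁ L₂ S K hS hn hsyl hquot hKS (le_normalizer_of_nz' hK₁)
    (le_normalizer_of_nz' hK₂) hKmax' hC hZ
  refine ⟨?_, ?_⟩
  · have := key L₁ (Set.mem_insert _ _)
    rwa [hD₁] at this
  · have := key L₂ (Set.mem_insert_of_mem _ rfl)
    rwa [hD₂] at this

end Cfsg.Agent.Lib.Helper23.S3Amal
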