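import Mathlib
import Cfsg.Agent.Lib.Helper45.S3Amal.NDefs

/-!
# S2858, claim (N), package NS: a swapping element in every coset `bT`, `b ∉ T`  (helper23)

Also: the three cosets of a subgroup of index 3 (`three_cosets`).
-/

set_option autoImplicit false

namespace Cfsg.Agent.Lib.Helper23.S3Amal

open Cfsg.Agent.Lib.Helper71.Sym Cfsg.Agent.Lib.Helper45.S3Amal

universe u

/-- In a type with three elements, every element is one of three given distinct ones. -/
theorem eq_of_card_three {X : Type*} (h : Nat.card X = 3) {a b c : X} (hab : a ≠ b) (hac : a ≠ c)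
    (hbc : b ≠ c) (x : X) : x = a ∨ x = b ∨ x = c := by
  classical
  have hfin : Finite X := Nat.finite_of_card_ne_zero (by omega)
  have := Fintype.ofFinite X
  have h3 : ({a, b, c} : Finset X).card = 3 := Finset.card_eq_three.mpr ⟨a, b, c, hab, hac, hbc, rfl⟩
  have huniv : ({a, b, c} : Finset X) = Finset.univ :=
    Finset.eq_univ_of_card _ (by rw [h3, ← Nat.card_eq_fintype_card, h])
  have hx : x ∈ ({a, b, c} : Finset X) := huniv ▸ Finset.mem_univ x
  simpa using hx

variable {G : Type u} [Group G]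

/-- The three cosets of a subgroup `T` of index 3 in `H`: if `c₁, c₂ ∈ H` lie in two different
nontrivial cosets, then every element of `H` lies in `T`, `c₁T` or `c₂T`. -/
theorem three_cosets {H T : Subgroup G} [Finite ↥H] (hTH : T ≤ H)
    (hHT : Nat.card ↥H = 3 * Nat.card ↥T) {c₁ c₂ : G} (hc₁ : c₁ ∈ H) (hc₂ : c₂ ∈ H)
    (h1 : c₁ ∉ T) (h2 : c₂ ∉ T) (h12 : c₁⁻¹ * c₂ ∉ T) {p : G} (hp : p ∈ H) :
    p ∈ T ∨ c₁⁻¹ * p ∈ T ∨ c₂⁻¹ * p ∈ T := by
  have hidx : (T.subgroupOf H).index = 3 := by
    have h1 := Subgroup.card_mul_index (T.subgroupOf H)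
    have h2 : Nat.card ↥(T.subgroupOf H) = Nat.card ↥T :=
      Nat.card_congr (Subgroup.subgroupOfEquivOfLe hTH).toEquiv
    rw [h2, hHT] at h1
    have hpos : 0 < Nat.card ↥T := by
      have : Finite ↥T := Finite.of_injective (fun t : ↥T => (⟨t.1, hTH t.2⟩ : ↥H))
        (fun a b hab => Subtype.ext (congrArg (fun x : ↥H => (x : G)) hab))
      exact Nat.card_pos
    nlinarith
  have hcard : Nat.card (↥H ⧸ T.subgroupOf H) = 3 := hidx
  have key := eq_of_card_three hcard
    (a := (((1 : ↥H)) : ↥H ⧸ T.subgroupOf H))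
    (b := (((⟨c₁, hc₁⟩ : ↥H)) : ↥H ⧸ T.subgroupOf H))
    (c := (((⟨c₂, hc₂⟩ : ↥H)) : ↥H ⧸ T.subgroupOf H))
    (by
      intro h
      rw [QuotientGroup.eq] at h
      apply h1
      simpa [Subgroup.mem_subgroupOf] using h)
    (by
      intro h
      rw [QuotientGroup.eq] at h
      apply h2
      simpa [Subgroup.mem_subgroupOf] using h)
    (by
      intro h
      rw [QuotientGroup.eq] at h
      apply h12
      simpa [Subgroup.mem_subgroupOf] using h)
    (((⟨p, hp⟩ : ↥H)) : ↥H ⧸ T.subgroupOf H)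
  rcases key with h | h | h
  · left
    rw [eq_comm, QuotientGroup.eq] at h
    simpa [Subgroup.mem_subgroupOf] using h
  · right; left
    rw [eq_comm, QuotientGroup.eq] at h
    simpa [Subgroup.mem_subgroupOf] using h
  · right; right
    rw [eq_comm, QuotientGroup.eq] at h
    simpa [Subgroup.mem_subgroupOf] using h

/-- **Package NS.** -/
theorem pkgNS : PkgNS.{u} := by
  intro G _ P T Q hA hZ b hb hbT
  have hfin := hA.fin
  by_cases hb2 : b * b ∈ T
  · exact ⟨b, hb, by simp [T.one_mem], hb2⟩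
  · obtain ⟨s, hsT, hsQ⟩ := hZ.exists_TQ
    have hb2P : b * b ∈ P := P.mul_mem hb hb
    have h12 : b⁻¹ * (b * b) ∉ T := by simpa [mul_assoc] using hbT
    have cos : ∀ p ∈ P, p ∈ T ∨ b⁻¹ * p ∈ T ∨ (b * b)⁻¹ * p ∈ T :=
      fun p hp => three_cosets hA.hTH hA.hHT hb hb2P hbT hb2 h12 hp
    have hsb : (b * b)⁻¹ * (s * b) ∈ T := by
      rcases cos (s * b) (P.mul_mem (hA.hTH hsT) hb) with h | h | h
      · exfalso; apply hbT
        have := T.mul_mem (T.inv_mem hsT) h
        simpa [mul_assoc] using this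
      · exfalso; apply hsQ
        refine hZ.inter b⁻¹ (P.inv_mem hb) (fun hc => hbT (by simpa using T.inv_mem hc)) s hsT ?_
        simpa [mul_assoc] using h
      · exact h
    have hb3 : b * b * b ∈ T := by
      rcases cos (b * b * b) (P.mul_mem hb2P hb) with h | h | h
      · exact h
      · exfalso; apply hb2
        have e : b⁻¹ * (b * b * b) = b * b := by group
        rwa [e] at h
      · exfalso; apply hbT
        have e : (b * b)⁻¹ * (b * b * b) = b := by group
        rwa [e] at h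
    refine ⟨b * s, P.mul_mem hb (hA.hTH hsT), ?_, ?_⟩
    · have e : (b * s)⁻¹ * b = s⁻¹ := by group
      rw [e]; exact T.inv_mem hsT
    · have e : b * s * b = (b * b * b) * ((b * b)⁻¹ * (s * b)) := by group
      rw [e]; exact T.mul_mem hb3 hsb

end Cfsg.Agent.Lib.Helper23.S3Amal
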