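import Mathlib
import Cfsg.Agent.Lib.Helper45.S3Amal.NDefs

/-!
# S2858, claim (N), package NT: conjugation transport of `LAmal`  (helper23)
-/

set_option autoImplicit false

namespace Cfsg.Agent.Lib.Helper23.S3Amal

open Cfsg.Agent.Lib.Helper71.Sym Cfsg.Agent.Lib.Helper45.S3Amal

universe u

variable {G : Type u} [Group G]

theorem inv_conj_conj (a x : G) : a⁻¹ * (a * x * a⁻¹) * a = x := by group

theorem conj_inv_conj (a x : G) : a * (a⁻¹ * x * a) * a⁻¹ = x := by group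

/-- `LAmal` is invariant under conjugation. -/
theorem lamal_cj {H T Q : Subgroup G} (a : G) (hA : LAmal H T Q) :
    LAmal (cj a H) (cj a T) (cj a Q) := by
  have hfin := hA.fin
  refine
    { fin := ?_
      hQT := cj_mono hA.hQT a
      hTH := cj_mono hA.hTH a
      hQn := ?_
      hT2 := ?_
      hTQ := by rw [card_cj, card_cj]; exact hA.hTQ
      hHT := by rw [card_cj, card_cj]; exact hA.hHT
      hTn := ?_
      hCQ := ?_
      hZ := ?_ }
  · unfold cj
    exact Finite.of_equiv _ (H.equivMapOfInjective _ (MulAut.conj a).injective).toEquiv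
  · intro h hh q hq
    rw [mem_cj] at hh hq ⊢
    have := hA.hQn _ hh _ hq
    have e : a⁻¹ * (h * q * h⁻¹) * a = a⁻¹ * h * a * (a⁻¹ * q * a) * (a⁻¹ * h * a)⁻¹ := by group
    rw [e]; exact this
  · unfold cj
    exact hA.hT2.map _
  · obtain ⟨h, hh, t, ht, hht⟩ := hA.hTn
    refine ⟨a * h * a⁻¹, conj_mem_cj hh, a * t * a⁻¹, conj_mem_cj ht, ?_⟩
    intro hc
    rw [mem_cj] at hc
    apply hht
    have e : a⁻¹ * (a * h * a⁻¹ * (a * t * a⁻¹) * (a * h * a⁻¹)⁻¹) * a = h * t * h⁻¹ := by group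
    rwa [e] at hc
  · intro g hg hgq
    rw [mem_cj] at hg ⊢
    apply hA.hCQ _ hg
    intro q hq
    have := hgq (a * q * a⁻¹) (conj_mem_cj hq)
    have e1 : a⁻¹ * g * a * q = a⁻¹ * (g * (a * q * a⁻¹)) * a := by group
    have e2 : q * (a⁻¹ * g * a) = a⁻¹ * ((a * q * a⁻¹) * g) * a := by group
    rw [e1, e2, this]
  · obtain ⟨z, hz, hz2, hzc, h, hh, hhz⟩ := hA.hZ
    refine ⟨a * z * a⁻¹, conj_mem_cj hz, ?_, ?_, a * h * a⁻¹, conj_mem_cj hh, ?_⟩
    · have e : a * z * a⁻¹ * (a * z * a⁻¹) = a * (z * z) * a⁻¹ := by group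
      rw [e, hz2]; group
    · intro t ht
      rw [mem_cj] at ht
      have := hzc _ ht
      have e1 : a * z * a⁻¹ * t = a * (z * (a⁻¹ * t * a)) * a⁻¹ := by group
      have e2 : t * (a * z * a⁻¹) = a * ((a⁻¹ * t * a) * z) * a⁻¹ := by group
      rw [e1, e2, this]
    · intro hc
      apply hhz
      have e1 : h * z = a⁻¹ * (a * h * a⁻¹ * (a * z * a⁻¹)) * a := by group
      have e2 : z * h = a⁻¹ * (a * z * a⁻¹ * (a * h * a⁻¹)) * a := by group
      rw [e1, e2, hc]

/-- **Package NT.** -/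
theorem pkgNT : PkgNT.{u} := fun _ _ _ a hA => lamal_cj a hA

end Cfsg.Agent.Lib.Helper23.S3Amal
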